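import Cfsg.Agent.Mrg.Omega.Node.MulG
import Cfsg.Agent.Mrg.Omega.OM.SwapL.Main
import Cfsg.Agent.Mrg.Omega.NO3S.MFive.WabF
import Cfsg.Agent.Mrg.Omega.LFive.Frame
import Cfsg.Agent.Mrg.Omega.NO3S.Sym.LineFive
import Cfsg.Agent.Mrg.Omega.NO3S.LightB.Facts
import Cfsg.Agent.Mrg.Omega.Node.ELXUni

-- merged: Cfsg.Agent.Mrg.Omega.NO3S.LN.Fr
section

/-!
# LightL (E), `n = 5`: the frame at every stage of `HypL`

* `exists_uni` : UNI+ for the blocks (`UniI`) at every stage;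
* `nB` : `N_G(B) ≤ N_G(V)`; `zcQ` : `Ω₁Z(O₂(P)) = V`.
-/

set_option autoImplicit false
set_option linter.unusedSectionVars false

namespace Cfsg.Agent.Omega.NO3S.LN

open Subgroup Cfsg Cfsg.Agent.ZN.ChoiceBase Cfsg.Agent.ZN.ChoiceSit
open Cfsg.Agent.ZN (jj zj bau zc zl o2)
open Cfsg.Agent.Omega.FFThm (SymKM)
open Cfsg.Agent.Omega.FrameFF (cv)
open Cfsg.Agent.Omega.NO3S (HypL HypN HypJ Hyp PSS)
open Cfsg.Agent.Omega.Node.MultiOf Cfsg.Agent.Omega.Node.SymOf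
open Cfsg.Agent.Omega.NO3S.ESym (UniI)
open Cfsg.Agent.Omega.NO3S.EThree.Frame (Fg)
open Cfsg.Agent.Omega.ESym.Light
open scoped Pointwise

universe u

variable {G : Type u} [Group G] [Finite G] {S : Sylow 2 G} {P K' B ZJ : Subgroup G} {ι : Type}
  {L W Z C : ι → Subgroup G} {k m : ℕ}

/-- **UNI+ for the FF-blocks over `B`, every stage.** -/
theorem exists_uni (hM : MulS S P K' B ZJ L W Z C k m) (hk : 0 < k) (hm : 2 ≤ m) :
    ∃ (ι' : Type) (L' W' Z' C' : ι' → Subgroup G), MulS S P K' B ZJ L' W' Z' C' k m ∧ UniI B ZJ L' W' := by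
  obtain ⟨N⟩ := hM.sym
  obtain ⟨F⟩ := exists_light hM.hyp.toHypN hM.stg hk hm N
  have h6 : 2 ^ 2 ≤ 2 ^ m := Nat.pow_le_pow_right (by norm_num) hm
  refine ⟨F.ι, F.L, _, _, _, ⟨hM.hyp, hM.stg, ⟨N⟩, OM.Lev.Main.toFg F.frl, F.fi, fun i => ?_⟩, F.uni⟩
  obtain ⟨j, hj, -⟩ := exists_bro F.sy F.ch (by omega) i
  exact ⟨j, hj⟩

/-- the blocks over `B` have the modules `W i`: `N_G(B)` permutes them -/
theorem cj_W (hM : MulS S P K' B ZJ L W Z C k m) (uni : UniI B ZJ L W) {g : G} (hg : g ∈ normalizer (B : Set G))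
    (i : ι) : ∃ j, cj g (W i) = W j := by
  obtain ⟨j, hj, -⟩ := uni _ _ ((hM.fbl i).conj hg)
  exact ⟨j, hj⟩

theorem V_eq (hM : MulS S P K' B ZJ L W Z C k m) : zl (S : Subgroup G) P = ⨆ i, W i := by
  have := hM.fin
  exact le_antisymm (Fg_V_le hM.fr) (iSup_le hM.fr.WV)

/-- **`N_G(B) ≤ N_G(V)`** -/
theorem nB (hM : MulS S P K' B ZJ L W Z C k m) (uni : UniI B ZJ L W) :
    normalizer (B : Set G) ≤ normalizer (zl (S : Subgroup G) P : Set G) := by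
  intro g hg
  refine mem_normalizer_of_cj_le ?_
  rw [V_eq hM]
  change Subgroup.map _ _ ≤ _
  rw [Subgroup.map_iSup]
  refine iSup_le fun i => ?_
  obtain ⟨j, hj⟩ := cj_W hM uni hg i
  exact (le_of_eq hj).trans (le_iSup W j)

/-- **`Ω₁Z(O₂(P)) = V`** -/
theorem zcQ (hM : MulS S P K' B ZJ L W Z C k m) : zc (o2 P) = zl (S : Subgroup G) P := by
  apply le_antisymm
  · intro x hx
    obtain ⟨h1, h2, h3⟩ := mem_zc.1 hx
    exact hM.fr.zcQ x h1 h2 fun y hy => (h3 y hy).symm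
  · intro x hx
    exact mem_zc.2 ⟨hM.fr.VQ hx, hM.fr.Vsq hx, fun y hy => hM.fr.cQ hy hx⟩

end Cfsg.Agent.Omega.NO3S.LN

end

-- merged: Cfsg.Agent.Mrg.Omega.LFive.FrameL
section

/-!
# LightL (E), `n = 5`: the common frame `LF` for `HypL` (`MulS .. 1 2`), every stage

* `exists_frl` : the light frame `FrL` over the level of `MulS`, with `Id5` (`B = C_S(n)`, `Z = ⟨n⟩, ⟨a⟩`) and UNI+;
* `lf_of_mulS` : `LF S P p`, the hypothesis is UNI over `T` (`uni`).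
-/

set_option autoImplicit false
set_option linter.unusedSectionVars false

namespace Cfsg.Agent.Omega.LFive

open Subgroup Cfsg Cfsg.Agent.ZN Cfsg.Agent.ZN.ChoiceBase Cfsg.Agent.Omega.MinPar Cfsg.Agent.Omega.Frame
open Cfsg.Agent.ZN.ChoiceSit (Syl)
open Cfsg.Agent.MinSimple.MinParabolic (IsMinPar)
open Cfsg.Agent.Omega.Node.MultiOf (NLoc KZ FBl)
open Cfsg.Agent.Omega.Node.SymOf (MulS)
open Cfsg.Agent.Omega.FFThm (SymKM)
open Cfsg.Agent.Omega.FrameFF (cv)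
open Cfsg.Agent.Omega.NTwo (nn aa Std mem_cent cm)
open Cfsg.Agent.Omega.NO3S.Sym.Light (FiveL)
open Cfsg.Agent.Omega.NO3S.Sym.LowFive (Id5)
open Cfsg.Agent.Omega.NO3S.ESym (UniI)
open Cfsg.Agent.Omega.OM.Lev.Uni (FrL)
open Cfsg.Agent.Omega.OM.LevD (LB)
open scoped Pointwise

universe u

variable {G : Type u} [Group G] [Finite G] {S : Sylow 2 G} {P K' B ZJ : Subgroup G} {ι : Type}
  {L W Z C : ι → Subgroup G} {p : Fin 5 → G}

/-- **The light frame over the level of `MulS`.** -/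
theorem exists_frl (hM : MulS S P K' B ZJ L W Z C 1 2) (h : FiveL S P p) :
    ∃ (Xf : Subgroup G) (L' W' Z' C' A' : Fin 2 → Subgroup G),
      FrL B (o2 P) (zl (S : Subgroup G) P) Xf ZJ L' W' Z' C' A' 2 ∧ UniI B ZJ L' W' ∧
        Id5 (S : Subgroup G) B W' Z' p := by
  obtain ⟨N⟩ := hM.sym
  obtain ⟨F⟩ := ESym.Light.exists_light hM.hyp.toHypN hM.stg one_pos le_rfl N
  have := F.fi
  have lb : LB S K' B ZJ := hM.lb
  have htwo : ∀ i : F.ι, ∃ j, j ≠ i := fun i => by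
    obtain ⟨j, hj, -⟩ := ESym.Light.exists_bro F.sy F.ch (by norm_num) i
    exact ⟨j, hj⟩
  obtain ⟨e, hid⟩ := NO3S.Sym.LowFive.exists_id5 h F.frl lb.BS htwo lb.eqB
  refine ⟨F.Xf, _, _, _, _, _, NO3S.Sym.LowFive.frl_reindex F.frl e, ?_, hid⟩
  intro L' V' h'
  obtain ⟨i, h1, h2⟩ := F.uni L' V' h'
  refine ⟨e.symm i, ?_, ?_⟩
  · rw [Function.comp_apply, e.apply_symm_apply]
    exact h1
  · rw [Function.comp_apply, Function.comp_apply, e.apply_symm_apply]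
    exact h2

section id5

variable {Xf : Subgroup G} {L' W' Z' C' A' : Fin 2 → Subgroup G}
  (hf : FrL B (o2 P) (zl (S : Subgroup G) P) Xf ZJ L' W' Z' C' A' 2)
  (hid : Id5 (S : Subgroup G) B W' Z' p)
include hf hid

theorem nn_mem_ZJ : nn p ∈ ZJ := hf.Z_le 0 ((hid.Z0 _).2 (Or.inr rfl))

theorem aa_mem_ZJ : aa p ∈ ZJ := hf.Z_le 1 ((hid.Z1 _).2 (Or.inr rfl))

theorem cent_ZJ_le : centralizer (ZJ : Set G) ≤ dd p :=
  le_inf (centralizer_le (Set.singleton_subset_iff.2 (nn_mem_ZJ hf hid)))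
    (centralizer_le (Set.singleton_subset_iff.2 (aa_mem_ZJ hf hid)))

theorem L_norm (i : Fin 2) : L' i ≤ ll S P := by
  intro l hl
  refine mem_normalizer_of_cj_le ?_
  rintro _ ⟨v, hv, rfl⟩
  exact hf.LV i l hl v hv

theorem L_zero : L' 0 ≤ ll S P ⊓ ca p := by
  refine le_inf (L_norm hf hid 0) fun l hl => ?_
  have h1 : aa p ∈ C' 0 := hf.WjC 0 1 (by decide) ((hf.blk 1).ZV ((hid.Z1 _).2 (Or.inr rfl)))
  exact mem_centralizer_singleton_iff.2 (hf.LC 0 l hl _ (aa_mem_ZJ hf hid) h1)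

theorem L_one : L' 1 ≤ ll S P ⊓ cn p := by
  refine le_inf (L_norm hf hid 1) fun l hl => ?_
  have h1 : nn p ∈ C' 1 := hf.WjC 1 0 (by decide) ((hf.blk 0).ZV ((hid.Z0 _).2 (Or.inr rfl)))
  exact mem_centralizer_singleton_iff.2 (hf.LC 1 l hl _ (nn_mem_ZJ hf hid) h1)

theorem L_le (i : Fin 2) : L' i ≤ dd p ⊔ (ll S P ⊓ cn p) ⊔ (ll S P ⊓ ca p) := by
  have key : ∀ i : Fin 2, i = 0 ∨ i = 1 := by decide
  rcases key i with rfl | rfl
  · exact (L_zero hf hid).trans le_sup_right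
  · exact (L_one hf hid).trans (le_sup_right.trans le_sup_left)

/-- `⟨C_G(Z_J), all blocks⟩ ≤ ⟨D, C_L(n), C_L(a)⟩` -/
theorem KZ_le (uni : UniI B ZJ L' W') : KZ B ZJ ≤ dd p ⊔ (ll S P ⊓ cn p) ⊔ (ll S P ⊓ ca p) := by
  have hD : centralizer (ZJ : Set G) ≤ dd p ⊔ (ll S P ⊓ cn p) ⊔ (ll S P ⊓ ca p) :=
    (cent_ZJ_le hf hid).trans (le_sup_left.trans le_sup_left)
  refine sup_le hD (iSup_le fun i => ?_)
  obtain ⟨j, -, h1⟩ := uni _ _ i.2
  refine h1.trans (sup_le (L_le hf hid j) ((centralizer_le ?_).trans hD))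
  exact SetLike.coe_subset_coe.2 le_sup_right

/-- `N_G(T) ≤ N_G(V)` -/
theorem nT {K' : Subgroup G} (lb : LB S K' B ZJ) (uni : UniI B ZJ L' W') :
    normalizer ((Std.T (S : Subgroup G) p : Subgroup G) : Set G) ≤ ll S P := by
  rw [← hid.BT]
  intro g hg
  have hV : zl (S : Subgroup G) P = ⨆ i, W' i :=
    le_antisymm (Node.MultiOf.Fg_V_le (OM.Lev.Main.toFg hf)) (iSup_le hf.WV)
  have hblk : ∀ i, FBl B (L' i) (W' i) := fun i =>
    ⟨⟨_, _, hf.blk i⟩, (hf.blk i).toBlock (hf.cardZ i) lb.Bp lb.weakNormal⟩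
  refine mem_normalizer_of_cj_le ?_
  rw [hV]
  change Subgroup.map _ _ ≤ _
  rw [Subgroup.map_iSup]
  refine iSup_le fun i => ?_
  obtain ⟨j, hj, -⟩ := uni _ _ ((hblk i).conj hg)
  exact (le_of_eq hj).trans (le_iSup W' j)

end id5

/-- **`LF S P p` for `HypL`** (every stage), from UNI over `T`. -/
theorem lf_of_mulS (hM : MulS S P K' B ZJ L W Z C 1 2) (hN : NLoc (KZ B ZJ)) (h : FiveL S P p)
    (uni : ∀ R : Subgroup G, IsMinPar (Std.T (S : Subgroup G) p) R → R ≤ cn p → ¬ R ≤ ca p → R ≤ ll S P) :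
    LF S P p := by
  obtain ⟨Xf, L', W', Z', C', A', hf, hu, hid⟩ := exists_frl hM h
  exact { toFiveL := h
          zq := NO3S.LN.zcQ hM
          uni := uni
          nT := nT hf hid hM.lb hu
          nloc := hN.mono (KZ_le hf hid hu) }

end Cfsg.Agent.Omega.LFive

end

-- merged: Cfsg.Agent.Mrg.Omega.NO3S.Sym.UnnOf
section

section


/-!
# LightL (E), `n = 5`: UNI over `T = C_S(n)` at every stage of `HypL` (helper604)

* `exists_fblk_neg` : stage `-1`: a minimal parabolic over `T ≥ B` is generated by `T` and an FF-block over `B`;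
* `norm_of_blk` : an FF-block `(L', V')` over `B` with `V' ≤ V`, `O₂(P) ≤ B ≤ S` normalises `V`, by LEMMA N;
* **`unn_of`** : `FiveL S P p`, `MulS S P K B ZJ .. 1 2`: every minimal parabolic `R ≤ C_G(n)` over `T` which moves `a`
  normalises `V`.
-/

set_option autoImplicit false
set_option linter.unusedSectionVars false
set_option linter.unusedVariables false

namespace Cfsg.Agent.Omega.NO3S.Sym.UnnOf

open Subgroup Cfsg Cfsg.Agent.PLocal.ThompsonJ Cfsg.Agent.ZN.ChoiceBase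
open Cfsg.Agent.ZN (jj zj bau zc zl o2)
open Cfsg.Agent.ZN.ChoiceSit
open Cfsg.Agent.MinSimple.MinParabolic (IsMinPar)
open Cfsg.Agent.Omega.MinPar (IsLoc IsPar IsParS)
open Cfsg.Agent.Omega.SQ1 Cfsg.Agent.Omega.SQ1.FFOne Cfsg.Agent.Omega.SQ1.FFSym
open Cfsg.Agent.Omega.LemmaK (Block WeakNormal)
open Cfsg.Agent.Omega.LemmaK.Main (le_normalizer_bau)
open Cfsg.Agent.Omega.FFThm (SymK SymKM)
open Cfsg.Agent.Omega.FrameFF (cv)
open Cfsg.Agent.Omega.NO3S (HypL HypN HypJ Hyp)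
open Cfsg.Agent.Omega.NO3S.Level (lev lev_mono lev_isLev lev_le)
open Cfsg.Agent.Omega.OM Cfsg.Agent.Omega.OM.Uni
open Cfsg.Agent.Omega.Node.MultiOf
open Cfsg.Agent.Omega.Node.SymOf
open Cfsg.Agent.Omega.NTwo (Std nn aa mem_cent)
open Cfsg.Agent.Omega.NO3S.Sym.Light (FiveL)
open Cfsg.Agent.Omega.NO3S.Sym.LowFive
open scoped Pointwise

universe u

/-! ### Stage `-1` : the block -/

theorem exists_fblk_neg {G : Type u} [Group G] [Finite G] (S : Sylow 2 G) {T H : Subgroup G} (hT : Syl T H)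
    (hB : bau (S : Subgroup G) ≤ T) (hP : IsMinPar T H)
    (hc : H ⊓ centralizer (o2 H : Set G) ≤ o2 H) (hJ : ¬ jj T ≤ o2 H)
    (hZ : ¬ H ≤ centralizer (zc T : Set G)) :
    ∃ L V : Subgroup G, L ≤ H ∧ BlkGen.FBlk (S : Subgroup G) L V ∧ H ≤ T ⊔ L := by
  have hbau : bau T = bau (S : Subgroup G) := LemmaK.Main.bau_eq S hT.2.1 hB
  have hw : WeakNormal 2 (bau T) := by
    rw [hbau]
    exact fun R hR hBR => le_normalizer_bau S hR hBR
  obtain ⟨A, hA, hoff⟩ := BlkGen.exists_off hT hP hc hJ hZ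
  obtain ⟨hno, hcon⟩ := FF.Glob.ffthm G T H hT hP hc ⟨A, hA.2.1.trans hT.1, hoff⟩
  have hm := SQ1.FFOne.minH_of hT hP hc
  rcases hcon with ⟨F, _, _, _, k, hk, ⟨M⟩⟩ | ⟨k, m, hk, hm2, ⟨M⟩⟩
  · have : Nonempty (Fin k) := ⟨⟨0, hk⟩⟩
    set N := (SQ1.FFOne.natKB_of hT hc hJ hk M).toFFK hm with hN
    obtain ⟨E, hE⟩ := N.toInK hm
    obtain ⟨L, hL⟩ := hE.exists_blk ⟨0, hk⟩
    have hpb := FBK.pb hm N hE hw hL
    have hF : BlkGen.FBlk (S : Subgroup G) L ⁅N.N ⟨0, hk⟩, L⁆ := by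
      exact ⟨⟨_, _, by rw [← hbau]; exact hpb.fb⟩, by rw [← hbau]; exact hpb.block hw⟩
    exact ⟨L, _, hL.LH hE, hF, hL.sup_T hE le_sup_left le_sup_right⟩
  · have h := syT_of hm hJ M hk (by omega) SQ1.FFOf.cv_le SQ1.FFOf.cv_norm
    obtain ⟨ι, J, X, Y, t, r, c⟩ := h.exists_ch
    have hin := c.main h Cfsg.Agent.Omega.SQ1.SymCyc.exists_pow
    obtain ⟨j, x, y, hTr⟩ := h.exists_tr
    obtain ⟨i, -⟩ := c.ex j x y hTr
    obtain ⟨L, hL⟩ := hin.exists_blk i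
    have hpb := FBS.pb hin hw hL
    have hF : BlkGen.FBlk (S : Subgroup G) L ⁅h.NN (J i) 0 (X i) (Y i), L⁆ := by
      exact ⟨⟨_, _, by rw [← hbau]; exact hpb.fb⟩, by rw [← hbau]; exact hpb.block hw⟩
    exact ⟨L, _, hL.LH hin, hF, hL.sup_T hin le_sup_left le_sup_right⟩

variable {G : Type u} [Group G] [Finite G] {S : Sylow 2 G} {P : Subgroup G} {p : Fin 5 → G}

/-! ### A block normalises `V` -/

/-- **A block over `B` normalises `V`.** -/
theorem norm_of_blk (h : FiveL S P p) {B L' V' Z' : Subgroup G} {q' : ℕ} (hF : FB B L' V' Z' q')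
    (hBS : B ≤ (S : Subgroup G)) (hQB : o2 P ≤ B) (hV' : V' ≤ zl (S : Subgroup G) P) (hV1 : V' ≠ ⊥)
    (lemN : ∀ g : G, cj g (zl (S : Subgroup G) P) ≤ o2 P →
      o2 P ≤ normalizer ((cj g (zl (S : Subgroup G) P) : Subgroup G) : Set G) →
        g ∈ normalizer (zl (S : Subgroup G) P : Set G)) :
    L' ≤ normalizer (zl (S : Subgroup G) P : Set G) := by
  have hSN : (S : Subgroup G) ≤ normalizer (zl (S : Subgroup G) P : Set G) :=
    h.star.isLoc.le.trans (MinSimple.VModule.le_normalizer_zl _ _)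
  have hQ : (S : Subgroup G) ⊓ centralizer (zl (S : Subgroup G) P : Set G) = o2 P :=
    IsParS.inf_centralizer S h.ctx.char2 h.star
  have hVQ : zl (S : Subgroup G) P ≤ o2 P := by
    rw [← hQ]
    exact le_inf h.V_le fun v hv => mem_centralizer_iff.2 fun w hw => h.V_comm hw hv
  -- `C_B(V')` is normalised by `L'`
  have hT : ∀ l ∈ L', ∀ x ∈ B, (∀ v ∈ V', x * v = v * x) →
      l * x * l⁻¹ ∈ B ∧ ∀ v ∈ V', (l * x * l⁻¹) * v = v * (l * x * l⁻¹) := by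
    intro l hl x hx hxv
    refine ⟨hF.cor l hl x hx hxv, fun v hv => ?_⟩
    have h1 := hF.nV l⁻¹ (inv_mem hl) v hv
    rw [inv_inv] at h1
    have h2 := hxv _ h1
    calc l * x * l⁻¹ * v = l * (x * (l⁻¹ * v * l)) * l⁻¹ := by group
      _ = l * (l⁻¹ * v * l * x) * l⁻¹ := by rw [h2]
      _ = v * (l * x * l⁻¹) := by group
  have hQV : ∀ x ∈ o2 P, ∀ v ∈ V', x * v = v * x := by
    intro x hx v hv
    rw [← hQ] at hx
    exact (mem_centralizer_iff.1 hx.2 v (hV' hv)).symm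
  intro g hg
  refine lemN g ?_ fun x hx => ?_
  · -- `V^g ≤ C_B(V') ≤ S` and `V^g` commutes with `V`
    obtain ⟨⟨x, hx⟩, hx1⟩ := Subgroup.ne_bot_iff_exists_ne_one.1 hV1
    have hx1' : x ≠ 1 := fun e => hx1 (Subtype.ext e)
    have hxg : x ∈ MulAut.conj g • zl (S : Subgroup G) P := by
      rw [NoFF.Basic.mem_conj]
      exact hV' (by
        have h1 := hF.nV g⁻¹ (inv_mem hg) x hx
        rwa [inv_inv] at h1)
    have hcomm := h.comm_of_inf (hV' hx) hx1' hxg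
    rintro _ ⟨v, hv, rfl⟩
    rw [← hQ]
    refine ⟨hBS (hT g hg v (hQB (hVQ hv)) (hQV v (hVQ hv))).1, mem_centralizer_iff.2 fun w hw => ?_⟩
    exact (mem_centralizer_iff.1 (hcomm hw) _ (smul_mem_pointwise_smul v (MulAut.conj g) _ hv)).symm
  · have h1 := (hT g⁻¹ (inv_mem hg) x (hQB hx) (hQV x hx)).1
    rw [← cj_normalizer, mem_cj]
    rw [inv_inv] at h1
    exact hSN (hBS h1)

/-! ### UNI over `T` -/

section main

variable {K B ZJ : Subgroup G} {ι : Type} {L W Z C : ι → Subgroup G}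

/-- LEMMA N at every stage. -/
theorem lemN_of (hM : MulS S P K B ZJ L W Z C 1 2) {g : G} (h1 : cj g (zl (S : Subgroup G) P) ≤ o2 P)
    (h2 : o2 P ≤ normalizer ((cj g (zl (S : Subgroup G) P) : Subgroup G) : Set G)) :
    g ∈ normalizer (zl (S : Subgroup G) P : Set G) := by
  obtain ⟨N⟩ := hM.sym
  have hy := hM.hyp
  have st := hM.stg
  clear hM
  cases st with
  | neg hj => exact LemN.lemN_neg ⟨hy.toHypN, hj⟩ le_rfl N h1 h2
  | lev n hall hn hn1 => exact LemN.lemN_lev hy.toHypN hn hn1 le_rfl N h2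

/-- **The block**: a minimal parabolic over `B` which moves `Ω₁(Z(B))` is generated by `B` and an FF-block. -/
theorem exists_block (hM : MulS S P K B ZJ L W Z C 1 2) (h : FiveL S P p) {R : Subgroup G} (hR : IsMinPar B R)
    (hs : Syl B R) (hc : R ⊓ centralizer (o2 R : Set G) ≤ o2 R) (hKR : ¬ K ≤ o2 R)
    (hZ : ¬ R ≤ centralizer (zc B : Set G)) :
    ∃ L' V' : Subgroup G, L' ≤ R ∧ FBl B L' V' ∧ R ≤ B ⊔ L' := by
  obtain ⟨N⟩ := hM.sym
  have hy := hM.hyp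
  have st := hM.stg
  clear hM
  cases st with
  | neg hj =>
    have hjj : jj (bau (S : Subgroup G)) = jj (S : Subgroup G) :=
      jj_eq_of_jj_le (jj_le_bau _) (bau_le _)
    obtain ⟨L', V', h1, h2, h3⟩ := exists_fblk_neg S hs le_rfl hR hc (by rw [hjj]; exact hKR) hZ
    exact ⟨L', V', h1, ⟨h2.fb, h2.blk⟩, h3⟩
  | lev n hall hn hn1 =>
    by_cases hlow : lev (S : Subgroup G) n ≤ o2 R
    · obtain ⟨L', V', h1, h2, h3⟩ := LevB.exists_fblk S (n := n) hs le_rfl hR hc hlow hKR hZ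
      exact ⟨L', V', h1, ⟨h2.fb, h2.blk⟩, h3⟩
    · exfalso
      obtain ⟨ι', hι', W', d, t, r, L', A', -, -, -, -, h2, hF⟩ := Lev.Sym.exists_sym_lev FF.Glob.ffthmM
        hy.toHyp.ctx.char2 hy.star (lev_isLev (S : Subgroup G) n) hn hy.toHyp.inf_eq_bot
        (NO3S.exists_BO hy.toHyp.ctx.char2 hy.star hn hn1) one_pos le_rfl N
      exact hZ (low_five (ι := ι') (n := n) h ⟨hy.toHypN, hn, hF, h2⟩ hall hR hs hc hlow)

/-- **UNI over `T = C_S(n)`, every stage of `HypL`.** -/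
theorem unn_of (hM : MulS S P K B ZJ L W Z C 1 2) (h : FiveL S P p) {R : Subgroup G}
    (hR : IsMinPar (Std.T (S : Subgroup G) p) R) (hRn : R ≤ centralizer ({nn p} : Set G))
    (hRa : ¬ R ≤ centralizer ({aa p} : Set G)) : R ≤ normalizer (zl (S : Subgroup G) P : Set G) := by
  have hlb := hM.lb
  obtain ⟨N⟩ := hM.sym
  obtain ⟨lf⟩ := ESym.Light.exists_light hM.hyp.toHypN hM.stg one_pos le_rfl N
  have hfi := lf.fi
  have htwo : ∀ i : lf.ι, ∃ j, j ≠ i := fun i => by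
    obtain ⟨j, hj, -⟩ := ESym.Light.exists_bro lf.sy lf.ch (by norm_num) i
    exact ⟨j, hj⟩
  obtain ⟨e, hid⟩ := exists_id5 h lf.frl hlb.BS htwo hlb.eqB
  have hBT := hid.BT
  have hs := Node.ELXUni.syl_T h hR.le hRn
  have hc := Node.ELXUni.char2_of_le h hR.le hRn
  have hQB : o2 P ≤ B := lf.frl.QB
  have hnB : nn p ∈ zc B := by
    rw [hBT]; exact h.std.mem_zcT.2 (Or.inr (Or.inl rfl))
  have hzB : aa p ∈ zc B := by
    rw [hBT]; exact h.std.mem_zcT.2 (Or.inr (Or.inr (Or.inl rfl)))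
  have hZJ : ∀ x ∈ zl (S : Subgroup G) P, x ∈ zc B → x ∈ ZJ := fun x hx hxB =>
    (lf.frl.mem_ZJ x).2 ⟨hx, fun b hb => (mem_zc.1 hxB).2.2 b hb⟩
  have hnJ := hZJ _ h.n_mem hnB
  have haJ := hZJ _ h.a_mem hzB
  have hZ : ¬ R ≤ centralizer (zc B : Set G) := fun hle =>
    hRa (hle.trans (centralizer_le (Set.singleton_subset_iff.2 hzB)))
  -- the level is not in `O₂(R)`
  have hKR : ¬ K ≤ o2 R := by
    intro hK
    apply hRa
    intro g hg
    have h1 : g ∈ normalizer (ZJ : Set G) := hlb.nrm _ (isPGroup_o2 R) hK (le_normalizer_o2 R hg)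
    obtain ⟨d, hd, n, hn, rfl⟩ := hlb.exists_frattini h1
    have hgn := mem_cent.1 (hRn hg)
    have hdn : d⁻¹ * nn p * d = nn p := by
      have := mem_centralizer_iff.1 (inv_mem hd) _ hnJ
      rw [← this, mul_assoc, inv_mul_cancel, mul_one]
    have hnn : n * nn p * n⁻¹ = nn p := by
      calc n * nn p * n⁻¹ = d⁻¹ * (d * n * nn p * (d * n)⁻¹) * d := by group
        _ = nn p := by rw [hgn, hdn]
    have hna := LightB.fix_of_norm h hnn (hBT ▸ hn)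
    have hda := mem_centralizer_iff.1 hd _ haJ
    rw [mem_cent]
    calc d * n * aa p * (d * n)⁻¹ = d * (n * aa p * n⁻¹) * d⁻¹ := by group
      _ = aa p := by rw [hna, ← hda, mul_assoc, mul_inv_cancel, mul_one]
  rw [← hBT] at hR hs
  obtain ⟨L', V', hL'R, hF, hsup⟩ := exists_block hM h hR hs hc hKR hZ
  obtain ⟨i, hi, -⟩ := lf.uni L' V' hF
  obtain ⟨⟨Z', q', hfb⟩, -⟩ := hF
  have hRL : R ≤ L' := hsup.trans (sup_le hfb.BL le_rfl)
  refine hRL.trans (norm_of_blk h hfb hlb.BS hQB (hi ▸ lf.frl.WV i) ?_ fun g h1 h2 => lemN_of hM h1 h2)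
  -- `V' ≠ 1`
  intro hbot
  obtain ⟨j, rfl⟩ := e.surjective i
  rw [hi] at hbot
  have hj : j = 0 ∨ j = 1 := by
    have h7 : ∀ a : Fin 2, a = 0 ∨ a = 1 := by decide
    exact h7 j
  rcases hj with rfl | rfl
  · exact h.std.n_ne_one (mem_bot.1 (hbot.le ((hid.W0 (nn p)).2 (Or.inr (Or.inl rfl)))))
  · exact h.std.a_ne_one (mem_bot.1 (hbot.le ((hid.W1 (aa p)).2 (Or.inr (Or.inl rfl)))))

end main

end Cfsg.Agent.Omega.NO3S.Sym.UnnOf

end

section


/-!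
# `ELight K` (LightL (E), `HypL`) from the absurdity of the common frame `LF`

UNI over `T` is `NO3S.Sym.UnnOf.unn_of`, the rest of `LF` is `lf_of_mulS`.
-/

set_option autoImplicit false

namespace Cfsg.Agent.Omega.LFive

open Subgroup Cfsg Cfsg.Agent.ZN Cfsg.Agent.Omega.MinPar Cfsg.Agent.Omega.Frame
open Cfsg.Agent.Omega.Node.MultiOf (NLoc KZ)
open Cfsg.Agent.Omega.Node.SymOf (MulS)
open Cfsg.Agent.Omega.NO3S.Sym.Light (FiveL)

universe u

/-- **`LF S P p` for `HypL`** (every stage), no hypothesis left. -/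
theorem lf_of_light {G : Type u} [Group G] [Finite G] {S : Sylow 2 G} {P K' B ZJ : Subgroup G} {ι : Type}
    {L W Z C : ι → Subgroup G} {p : Fin 5 → G} (hM : MulS S P K' B ZJ L W Z C 1 2) (hN : NLoc (KZ B ZJ))
    (h : FiveL S P p) : LF S P p :=
  lf_of_mulS hM hN h fun _ hR hRn hRa => NO3S.Sym.UnnOf.unn_of hM h hR hRn hRa

/-- **`ELight K`** -/
theorem eLight_of {K : Cls.{u}}
    (hF : ∀ (G : Type u) [Group G] [Finite G] (S : Sylow 2 G) (P : Subgroup G) (p : Fin 5 → G), ¬ LF S P p) :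
    Node.SymOf.ELight K :=
  fun G _ _ _ S P _ _ _ _ _ _ _ _ hM hN p h => (hF G S P p (lf_of_light hM hN h)).elim

end Cfsg.Agent.Omega.LFive

end

end
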